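import Mathlib.AlgebraicGeometry.QuasiAffine
import Mathlib.AlgebraicGeometry.Morphisms.QuasiSeparated

/-!
Helper lemmas (helper4): quasi-affine schemes.  A quasi-compact scheme covered by quasi-affine
basic opens of global sections is quasi-affine.
-/

namespace Groth.Agent.Lib.Helper4.QAffAux

open AlgebraicGeometry CategoryTheory Topology TopologicalSpace

universe u

theorem isQuasiAffine_of_cover {X : Scheme.{u}} [CompactSpace X]
    (H : ∀ x : X, ∃ h : Γ(X, ⊤), x ∈ X.basicOpen h ∧ (X.basicOpen h).toScheme.IsQuasiAffine) :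
    X.IsQuasiAffine := by
  choose h hxh hqa using H
  have : QuasiSeparatedSpace X := by
    refine QuasiSeparatedSpace.of_isOpenCover (U := fun x => X.basicOpen (h x))
      (eq_top_iff.mpr fun x _ => Opens.mem_iSup.mpr ⟨x, hxh x⟩)
      (fun _ => isRetrocompact_basicOpen _) (fun x => ?_)
    have := hqa x
    exact (isQuasiSeparated_iff_quasiSeparatedSpace _ (X.basicOpen (h x)).isOpen).mpr
      (inferInstanceAs (QuasiSeparatedSpace (X.basicOpen (h x)).toScheme))
  refine Scheme.IsQuasiAffine.of_forall_exists_mem_basicOpen X fun x => ?_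
  set U := X.basicOpen (h x)
  have := hqa x
  obtain ⟨_, ⟨_, ⟨r, hr, rfl⟩, rfl⟩, hxr, -⟩ :=
    (Scheme.IsQuasiAffine.isBasis_basicOpen U.toScheme).exists_subset_of_mem_open
      (Set.mem_univ (⟨x, hxh x⟩ : U)) isOpen_univ
  -- the corresponding section over `U`
  set r' : Γ(X, U) := X.presheaf.map (eqToHom U.ι_image_top.symm).op r
  have hW : U.ι ''ᵁ U.toScheme.basicOpen r = X.basicOpen r' := Scheme.Opens.ι_image_basicOpen' U r
  have hWaff : IsAffineOpen (X.basicOpen r') := by
    rw [← hW]; exact hr.image_of_isOpenImmersion U.ι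
  have hxW : x ∈ X.basicOpen r' := by
    rw [← hW]; exact ⟨_, hxr, rfl⟩
  obtain ⟨n, y, hy⟩ := exists_eq_pow_mul_of_isCompact_of_isQuasiSeparated X ⊤
    isCompact_univ isQuasiSeparated_univ (h x) r'
  simp only [TopCat.Presheaf.restrictOpen, TopCat.Presheaf.restrict] at hy
  have hunit : IsUnit ((X.presheaf.map (homOfLE (X.basicOpen_le (h x))).op (h x)) ^ n) :=
    (RingedSpace.isUnit_res_basicOpen _ (h x)).pow n
  have key : X.basicOpen (y * h x) = X.basicOpen r' := by
    have e1 : X.basicOpen (X.presheaf.map (homOfLE (X.basicOpen_le (h x))).op y) =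
        X.basicOpen (h x) ⊓ X.basicOpen y := Scheme.basicOpen_res _ _ _
    have e2 : X.basicOpen ((X.presheaf.map (homOfLE (X.basicOpen_le (h x))).op (h x)) ^ n * r') =
        X.basicOpen r' := by
      rw [Scheme.basicOpen_mul, Scheme.basicOpen_of_isUnit _ hunit]
      exact inf_eq_right.mpr (X.basicOpen_le r')
    rw [Scheme.basicOpen_mul, inf_comm, ← e1, hy, e2]
  refine ⟨y * h x, ?_, ?_⟩
  · rw [key]; exact hWaff
  · rw [key]; exact hxW

/-- A quasi-compact scheme immersing into a quasi-affine open subscheme is quasi-affine. -/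
theorem isQuasiAffine_of_range_subset {X S : Scheme.{u}} (ι : S ⟶ X) [IsImmersion ι]
    [CompactSpace S] (T : X.Opens) [T.toScheme.IsQuasiAffine] (h : Set.range ι ⊆ T) :
    S.IsQuasiAffine := by
  have h' : Set.range ι ⊆ Set.range T.ι := by rw [Scheme.Opens.range_ι]; exact h
  let l := IsOpenImmersion.lift T.ι ι h'
  have : IsImmersion (l ≫ T.ι) := by rw [IsOpenImmersion.lift_fac]; infer_instance
  have : IsImmersion l := IsImmersion.of_comp l T.ι
  exact Scheme.IsQuasiAffine.of_isImmersion l

theorem mem_basicOpen_topIso_inv {Y : Scheme.{u}} (V : Y.Opens) (a : Γ(Y, V)) (y : V.toScheme) :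
    y ∈ V.toScheme.basicOpen (V.topIso.inv a) ↔ V.ι y ∈ Y.basicOpen a := by
  rw [← Scheme.Opens.ι_image_basicOpen_topIso_inv V a]
  change _ ↔ V.ι y ∈ V.ι '' (V.toScheme.basicOpen (V.topIso.inv a) : Set V.toScheme)
  constructor
  · intro hy
    exact ⟨y, hy, rfl⟩
  · rintro ⟨z, hz, hzy⟩
    have : z = y := V.ι.isOpenEmbedding.injective hzy
    rw [← this]
    exact hz

end Groth.Agent.Lib.Helper4.QAffAux
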